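import Groth.Agent.KerDerived.LocCohSeq
import Mathlib.Topology.Sheaves.Skyscraper
import Mathlib.CategoryTheory.Adjunction.FullyFaithful

/-!
The stalks of a pullback; direct images along embeddings are fully faithful; sections with support
as the right adjoint of the direct image from the closed complement.
-/

set_option autoImplicit false
set_option linter.style.haveILetI false
set_option backward.isDefEq.respectTransparency false
set_option backward.isDefEq.respectTransparency.types false
universe u

open CategoryTheory CategoryTheory.Limits Opposite TopologicalSpace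

namespace Groth.Agent.ClosedPush

section Generic

universe v₁ v₂ u₁ u₂
variable {C : Type u₁} [Category.{v₁} C] {D : Type u₂} [Category.{v₂} D] {L : C ⥤ D} {R : D ⥤ C}

/-- A fully faithful right adjoint is left adjoint to coreflection onto its essential image. -/
noncomputable def adjOfCoreflection (a : L ⊣ R) [R.Full] [R.Faithful] (S : C ⥤ C) (ι : S ⟶ 𝟭 C)
    (hη : ∀ F, IsIso (a.unit.app (S.obj F))) (hι : ∀ F, Mono (ι.app F))
    (hlift : ∀ G F (φ : R.obj G ⟶ F), ∃ ψ, ψ ≫ ι.app F = φ) : R ⊣ S ⋙ L :=
  haveI := hι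
  haveI := hη
  Adjunction.mkOfHomEquiv
    { homEquiv := fun G F =>
        { toFun := fun φ => R.preimage ((hlift G F φ).choose ≫ a.unit.app (S.obj F))
          invFun := fun ψ => (R.map ψ ≫ inv (a.unit.app (S.obj F))) ≫ ι.app F
          left_inv := fun φ => by simp [(hlift G F φ).choose_spec]
          right_inv := fun ψ => by
            have h : (hlift G F ((R.map ψ ≫ inv (a.unit.app (S.obj F))) ≫ ι.app F)).choose =
                R.map ψ ≫ inv (a.unit.app (S.obj F)) :=
              (cancel_mono (ι.app F)).1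
                (hlift G F ((R.map ψ ≫ inv (a.unit.app (S.obj F))) ≫ ι.app F)).choose_spec
            apply R.map_injective
            rw [R.map_preimage, h, Category.assoc]
            exact (congrArg (R.map ψ ≫ ·) (IsIso.inv_hom_id _)).trans (Category.comp_id _) }
      homEquiv_naturality_left_symm := fun g ψ => by simp
      homEquiv_naturality_right := fun {G F F'} φ g => by
        have h : (hlift G F' (φ ≫ g)).choose = (hlift G F φ).choose ≫ S.map g := by
          rw [← cancel_mono (ι.app F'), (hlift G F' (φ ≫ g)).choose_spec, Category.assoc, ι.naturality g,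
            ← Category.assoc, (hlift G F φ).choose_spec]
          rfl
        apply R.map_injective
        simp only [Equiv.coe_fn_mk, Functor.map_preimage, Functor.map_comp, Functor.comp_map, h, Category.assoc]
        exact congrArg ((hlift G F φ).choose ≫ ·) (a.unit.naturality (S.map g)) }

end Generic

variable {X Z : TopCat.{u}} (f : Z ⟶ X)

/-- The stalk functor on abelian sheaves. -/
noncomputable abbrev stk (x : X) : CohTop.Ab X ⥤ AddCommGrpCat.{u} :=
  TopCat.Sheaf.forget AddCommGrpCat.{u} X ⋙ TopCat.Presheaf.stalkFunctor _ x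

/-- Stalks of a pullback. -/
noncomputable def pullStkIso (z : Z) : CohTop.pull f ⋙ stk z ≅ stk (f z) :=
  letI : ∀ U : Opens Z, Decidable (z ∈ U) := fun _ => Classical.dec _
  letI : ∀ U : Opens X, Decidable (f z ∈ U) := fun _ => Classical.dec _
  (((TopCat.Sheaf.pullbackPushforwardAdjunction AddCommGrpCat.{u} f).comp
      (stalkSkyscraperSheafAdjunction z)).ofNatIsoRight
    (Iso.refl (skyscraperSheafFunctor (C := AddCommGrpCat.{u}) (f z)))).leftAdjointUniq
      (stalkSkyscraperSheafAdjunction (f z))

variable {f}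

/-- A chosen open with given preimage along an inducing map. -/
noncomputable def ext (hf : Topology.IsInducing f) (V : Opens Z) : Opens X :=
  ⟨(hf.isOpen_iff.1 V.2).choose, (hf.isOpen_iff.1 V.2).choose_spec.1⟩

lemma map_ext (hf : Topology.IsInducing f) (V : Opens Z) : (Opens.map f).obj (ext hf V) = V :=
  Opens.ext (hf.isOpen_iff.1 V.2).choose_spec.2

theorem push_faithful (hf : Topology.IsInducing f) : (CohTop.push f).Faithful where
  map_injective {G H} a b h := by
    refine ObjectProperty.hom_ext _ (NatTrans.ext (funext fun ⟨V⟩ => ?_))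
    obtain ⟨W, rfl⟩ : ∃ W, (Opens.map f).obj W = V := ⟨_, map_ext hf V⟩
    exact congrArg (fun c => c.hom.app (op W)) h

theorem push_full (hf : Topology.IsInducing f) : (CohTop.push f).Full where
  map_surjective {G H} ψ := by
    let φ : ∀ W : Opens X, G.obj.obj (op ((Opens.map f).obj W)) ⟶ H.obj.obj (op ((Opens.map f).obj W)) :=
      fun W => ψ.hom.app (op W)
    have hφ : ∀ (W M : Opens X) (h : M ≤ W) (k : op ((Opens.map f).obj W) ⟶ op ((Opens.map f).obj M)),
        G.obj.map k ≫ φ M = φ W ≫ H.obj.map k := fun W M h k => by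
      rw [Subsingleton.elim k ((Opens.map f).map (homOfLE h)).op]
      exact ψ.hom.naturality (homOfLE h).op
    have hnat : ∀ (W W' : Opens X) (k : op ((Opens.map f).obj W) ⟶ op ((Opens.map f).obj W')),
        G.obj.map k ≫ φ W' = φ W ≫ H.obj.map k := by
      intro W W' k
      have hM : (Opens.map f).obj (W ⊓ W') = (Opens.map f).obj W' := inf_eq_right.2 k.unop.le
      let j : op ((Opens.map f).obj W') ⟶ op ((Opens.map f).obj (W ⊓ W')) := (eqToHom hM).op
      haveI : IsIso j := inferInstanceAs (IsIso (eqToHom hM).op)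
      rw [← cancel_mono (H.obj.map j), Category.assoc, Category.assoc, ← hφ W' (W ⊓ W') inf_le_right j,
        ← Functor.map_comp, ← hφ W (W ⊓ W') inf_le_left (k ≫ j), Functor.map_comp, Category.assoc]
    let e : ∀ V : (Opens Z)ᵒᵖ, V ⟶ op ((Opens.map f).obj (ext hf V.unop)) :=
      fun V => (eqToHom (map_ext hf V.unop)).op
    let e' : ∀ V : (Opens Z)ᵒᵖ, op ((Opens.map f).obj (ext hf V.unop)) ⟶ V :=
      fun V => (eqToHom (map_ext hf V.unop).symm).op
    refine ⟨ObjectProperty.homMk
      { app := fun V => G.obj.map (e V) ≫ φ (ext hf V.unop) ≫ H.obj.map (e' V)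
        naturality := fun V V' i => ?_ }, ?_⟩
    · have h1 := hnat (ext hf V.unop) (ext hf V'.unop) (e' V ≫ i ≫ e V')
      rw [← Category.assoc, ← Functor.map_comp, Subsingleton.elim (i ≫ e V') (e V ≫ e' V ≫ i ≫ e V'),
        Functor.map_comp, Category.assoc, reassoc_of% h1, ← Functor.map_comp]
      simp only [Category.assoc, ← Functor.map_comp]
      congr 3
    · refine ObjectProperty.hom_ext _ (NatTrans.ext (funext fun ⟨W⟩ => ?_))
      change G.obj.map (e (op ((Opens.map f).obj W))) ≫ φ _ ≫ H.obj.map _ = φ W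
      rw [← hnat, ← Category.assoc, ← Functor.map_comp,
        Subsingleton.elim (_ ≫ _ : op ((Opens.map f).obj W) ⟶ op ((Opens.map f).obj W)) (𝟙 _),
        G.obj.map_id, Category.id_comp]

theorem isIso_counit (hf : Topology.IsInducing f) :
    IsIso (TopCat.Sheaf.pullbackPushforwardAdjunction AddCommGrpCat.{u} f).counit := by
  haveI := push_faithful hf
  haveI := push_full hf
  infer_instance

/-- A sheaf whose sections vanish on the opens missing a point set has zero stalks there. -/
lemma isZero_stalk_of_isZero_sections {X : TopCat.{u}} {F : CohTop.Ab X} {U : Opens X}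
    (hF : ∀ W, W ≤ U → IsZero (F.obj.obj (op W))) {x : X} (hx : x ∈ U) : IsZero ((stk x).obj F) := by
  rw [AddCommGrpCat.isZero_iff_subsingleton]
  constructor
  intro a b
  obtain ⟨V, hV, s, rfl⟩ := TopCat.Presheaf.germ_exist (F := F.obj) a
  obtain ⟨V', hV', t, rfl⟩ := TopCat.Presheaf.germ_exist (F := F.obj) b
  refine TopCat.Presheaf.germ_ext F.obj (U ⊓ V ⊓ V') ⟨⟨hx, hV⟩, hV'⟩ (homOfLE (inf_le_left.trans inf_le_right))
    (homOfLE inf_le_right) ?_
  exact (AddCommGrpCat.subsingleton_of_isZero (hF _ (inf_le_left.trans inf_le_left))).elim _ _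

/-- Sheaves supported in a closed subspace are direct images from it. -/
theorem isIso_unit_of_supported (hf : Topology.IsInducing f) (H : CohTop.Ab X) (U : Opens X)
    (hU : ∀ x : X, x ∈ Set.range f ∨ x ∈ U) (hU' : ∀ z, f z ∉ U)
    (hH : ∀ W, W ≤ U → IsZero (H.obj.obj (op W))) :
    IsIso ((TopCat.Sheaf.pullbackPushforwardAdjunction AddCommGrpCat.{u} f).unit.app H) := by
  let adj := TopCat.Sheaf.pullbackPushforwardAdjunction AddCommGrpCat.{u} f
  haveI := isIso_counit hf
  haveI : IsIso ((CohTop.pull f).map (adj.unit.app H)) := by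
    haveI : IsIso ((CohTop.pull f).map (adj.unit.app H) ≫ adj.counit.app _) := by
      erw [adj.left_triangle_components]; infer_instance
    exact IsIso.of_isIso_comp_right _ (adj.counit.app ((CohTop.pull f).obj H))
  haveI : ∀ x : X, IsIso ((TopCat.Presheaf.stalkFunctor AddCommGrpCat.{u} x).map (adj.unit.app H).hom) := by
    intro x
    rcases hU x with ⟨z, rfl⟩ | hx
    · exact (NatIso.isIso_map_iff (pullStkIso f z) (adj.unit.app H)).1
        (inferInstanceAs (IsIso ((stk z).map ((CohTop.pull f).map (adj.unit.app H)))))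
    · refine isIso_of_source_target_iso_zero _ (isZero_stalk_of_isZero_sections (F := H) hH hx).isoZero
        (isZero_stalk_of_isZero_sections (F := (CohTop.push f).obj ((CohTop.pull f).obj H)) (fun W hW => ?_) hx).isoZero
      have he : (Opens.map f).obj W = ⊥ := bot_unique fun z hz => (hU' z (hW hz)).elim
      change IsZero (((CohTop.pull f).obj H).obj.obj (op ((Opens.map f).obj W)))
      rw [he]
      exact (TopCat.Sheaf.isTerminalOfEmpty _).isZero
  exact TopCat.Presheaf.isIso_of_stalkFunctor_map_iso (adj.unit.app H)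

variable (U : Opens X)

/-- The unit of restriction to an open is bijective on the opens inside it. -/
lemma mono_unit_app (F : CohTop.Ab X) {W : Opens X} (hW : W ≤ U) :
    Mono (((TopCat.Sheaf.pullbackPushforwardAdjunction AddCommGrpCat.{u} (CohCx.incl U)).unit.app F).hom.app (op W)) := by
  have h := congrArg (fun a => a.hom.app (op W))
    ((TopCat.Sheaf.pullbackPushforwardAdjunction AddCommGrpCat.{u} (CohCx.incl U)).unit_leftAdjointUniq_hom_app
      (KerDerived.restrAdj U) F)
  have hc : IsIso (U.isOpenEmbedding.isOpenMap.adjunction.counit.app W) := by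
    refine ⟨homOfLE fun x hx => ⟨⟨x, hW hx⟩, hx, rfl⟩, Subsingleton.elim _ _, Subsingleton.elim _ _⟩
  have : Mono (((KerDerived.restrAdj U).unit.app F).hom.app (op W)) := by
    have h0 : IsIso (F.obj.map (U.isOpenEmbedding.isOpenMap.adjunction.counit.app W).op) := inferInstance
    simpa [KerDerived.restrAdj] using (inferInstance : Mono (F.obj.map (U.isOpenEmbedding.isOpenMap.adjunction.counit.app W).op))
  haveI : Mono (((TopCat.Sheaf.pullbackPushforwardAdjunction AddCommGrpCat.{u} (CohCx.incl U)).unit.app F).hom.app (op W) ≫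
      ((CohTop.push (CohCx.incl U)).map ((KerDerived.pullIsoRestr U).hom.app F)).hom.app (op W)) := by
    change Mono (((TopCat.Sheaf.pullbackPushforwardAdjunction AddCommGrpCat.{u} (CohCx.incl U)).unit.app F ≫
      (TopCat.Sheaf.pushforward AddCommGrpCat.{u} (CohCx.incl U)).map
        (((TopCat.Sheaf.pullbackPushforwardAdjunction AddCommGrpCat.{u} (CohCx.incl U)).leftAdjointUniq
          (KerDerived.restrAdj U)).hom.app F)).hom.app (op W))
    rw [h]; exact this
  exact mono_of_mono (((TopCat.Sheaf.pullbackPushforwardAdjunction AddCommGrpCat.{u} (CohCx.incl U)).unit.app F).hom.app (op W))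
    (((CohTop.push (CohCx.incl U)).map ((KerDerived.pullIsoRestr U).hom.app F)).hom.app (op W))

lemma isZero_sectSupp (F : CohTop.Ab X) {W : Opens X} (hW : W ≤ U) :
    IsZero ((CohCx.sectSupp U F).obj.obj (op W)) := by
  haveI := mono_unit_app U F hW
  let η := (TopCat.Sheaf.pullbackPushforwardAdjunction AddCommGrpCat.{u} (CohCx.incl U)).unit.app F
  haveI : Mono ((kernel.ι η).hom.app (op W)) := by
    haveI : Mono (kernel.ι η).hom := inferInstanceAs (Mono ((sheafToPresheaf _ _).map (kernel.ι η)))
    infer_instance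
  have h0 : (kernel.ι η).hom.app (op W) ≫ η.hom.app (op W) = 0 :=
    congrArg (fun a => a.hom.app (op W)) (kernel.condition η)
  rw [IsZero.iff_id_eq_zero, ← cancel_mono ((kernel.ι η).hom.app (op W)), ← cancel_mono (η.hom.app (op W)),
    Category.id_comp, zero_comp, zero_comp, h0]

lemma inclCompl_isInducing : Topology.IsInducing (CohCx.inclCompl U) := ⟨rfl⟩

lemma isIso_unit_sectSupp (F : CohTop.Ab X) :
    IsIso ((TopCat.Sheaf.pullbackPushforwardAdjunction AddCommGrpCat.{u} (CohCx.inclCompl U)).unit.app
      (CohCx.sectSupp U F)) :=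
  isIso_unit_of_supported (inclCompl_isInducing U) _ U
    (fun x => (em (x ∈ U)).elim Or.inr fun h => Or.inl ⟨⟨x, h⟩, rfl⟩) (fun z => z.2)
    fun _ hW => isZero_sectSupp U F hW

/-- Morphisms from a sheaf on the complement land in the sections with support. -/
lemma comp_unit_eq_zero (G : CohTop.Ab (TopCat.of ((U : Set X)ᶜ : Set X))) (F : CohTop.Ab X)
    (φ : (CohTop.push (CohCx.inclCompl U)).obj G ⟶ F) :
    φ ≫ (TopCat.Sheaf.pullbackPushforwardAdjunction AddCommGrpCat.{u} (CohCx.incl U)).unit.app F = 0 := by
  let adj := TopCat.Sheaf.pullbackPushforwardAdjunction AddCommGrpCat.{u} (CohCx.incl U)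
  have hA : IsZero (((CohVanish.restrictSh U.isOpenEmbedding)).obj ((CohTop.push (CohCx.inclCompl U)).obj G)) := by
    rw [IsZero.iff_id_eq_zero]
    refine ObjectProperty.hom_ext _ (NatTrans.ext (funext fun ⟨W⟩ => IsZero.eq_of_src ?_ _ _))
    change IsZero (G.obj.obj (op ((Opens.map (CohCx.inclCompl U)).obj (U.isOpenEmbedding.isOpenMap.functor.obj W))))
    rw [show (Opens.map (CohCx.inclCompl U)).obj (U.isOpenEmbedding.isOpenMap.functor.obj W) = ⊥ from
      bot_unique fun z ⟨w, _, hw⟩ => (z.2 (show (z.1 : X) ∈ U from (show (w.1 : X) = z.1 from hw) ▸ (show (w.1 : X) ∈ U from w.2))).elim]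
    exact (TopCat.Sheaf.isTerminalOfEmpty _).isZero
  have hz := (hA.of_iso ((KerDerived.pullIsoRestr U).app _)).eq_of_src ((CohTop.pull (CohCx.incl U)).map φ) 0
  rw [adj.unit_naturality φ |>.symm]
  rw [hz, Functor.map_zero, comp_zero]

/-- The direct image from the closed complement is left adjoint to sections with support. -/
noncomputable def suppAdj :
    CohTop.push (CohCx.inclCompl U) ⊣ LocCohZ.sectSuppF U ⋙ CohTop.pull (CohCx.inclCompl U) :=
  haveI := push_faithful (inclCompl_isInducing U)
  haveI := push_full (inclCompl_isInducing U)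
  adjOfCoreflection (TopCat.Sheaf.pullbackPushforwardAdjunction AddCommGrpCat.{u} (CohCx.inclCompl U))
    (LocCohZ.sectSuppF U) (KerDerived.suppι U) (isIso_unit_sectSupp U)
    (fun _ => inferInstanceAs (Mono (kernel.ι _)))
    (fun G F φ => ⟨kernel.lift _ φ (comp_unit_eq_zero U G F φ), kernel.lift_ι _ _ _⟩)

end Groth.Agent.ClosedPush
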