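import Mathlib

/-! Direct images of sheaves of sets along inducing maps. -/

set_option autoImplicit false
set_option linter.style.haveILetI false
set_option backward.isDefEq.respectTransparency false
set_option backward.isDefEq.respectTransparency.types false
universe u

open CategoryTheory CategoryTheory.Limits Opposite TopologicalSpace

namespace Groth.Agent.ClosedPushSet

variable {Z X : TopCat.{u}} {f : Z ⟶ X}

/-- A chosen open with given preimage along an inducing map. -/
noncomputable def ext (hf : Topology.IsInducing f) (V : Opens Z) : Opens X :=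
  ⟨(hf.isOpen_iff.1 V.2).choose, (hf.isOpen_iff.1 V.2).choose_spec.1⟩

lemma map_ext (hf : Topology.IsInducing f) (V : Opens Z) : (Opens.map f).obj (ext hf V) = V :=
  Opens.ext (hf.isOpen_iff.1 V.2).choose_spec.2

theorem push_faithful (hf : Topology.IsInducing f) : (TopCat.Sheaf.pushforward (Type u) f).Faithful where
  map_injective {G H} a b h := by
    refine ObjectProperty.hom_ext _ (NatTrans.ext (funext fun ⟨V⟩ => ?_))
    obtain ⟨W, rfl⟩ : ∃ W, (Opens.map f).obj W = V := ⟨_, map_ext hf V⟩
    exact congrArg (fun c => c.hom.app (op W)) h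

theorem push_full (hf : Topology.IsInducing f) : (TopCat.Sheaf.pushforward (Type u) f).Full where
  map_surjective {G H} ψ := by
    let φ : ∀ W : Opens X, G.obj.obj (op ((Opens.map f).obj W)) ⟶ H.obj.obj (op ((Opens.map f).obj W)) :=
      fun W => ψ.hom.app (op W)
    have hφ : ∀ (W M : Opens X) (h : M ≤ W) (k : op ((Opens.map f).obj W) ⟶ op ((Opens.map f).obj M)),
        G.obj.map k ≫ φ M = φ W ≫ H.obj.map k := fun W M h k => by
      rw [Subsingleton.elim k ((Opens.map f).map (homOfLE h)).op]
      exact ψ.hom.naturality (homOfLE h).op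
    have hnat : ∀ (W W' : Opens X) (k : op ((Opens.map f).obj W) ⟶ op ((Opens.map f).obj W')),
        G.obj.map k ≫ φ W' = φ W ≫ H.obj.map k := by
      intro W W' k
      have hM : (Opens.map f).obj (W ⊓ W') = (Opens.map f).obj W' := inf_eq_right.2 k.unop.le
      let j : op ((Opens.map f).obj W') ⟶ op ((Opens.map f).obj (W ⊓ W')) := (eqToHom hM).op
      haveI : IsIso j := inferInstanceAs (IsIso (eqToHom hM).op)
      rw [← cancel_mono (H.obj.map j), Category.assoc, Category.assoc, ← hφ W' (W ⊓ W') inf_le_right j,
        ← Functor.map_comp, ← hφ W (W ⊓ W') inf_le_left (k ≫ j), Functor.map_comp, Category.assoc]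
    let e : ∀ V : (Opens Z)ᵒᵖ, V ⟶ op ((Opens.map f).obj (ext hf V.unop)) :=
      fun V => (eqToHom (map_ext hf V.unop)).op
    let e' : ∀ V : (Opens Z)ᵒᵖ, op ((Opens.map f).obj (ext hf V.unop)) ⟶ V :=
      fun V => (eqToHom (map_ext hf V.unop).symm).op
    refine ⟨ObjectProperty.homMk
      { app := fun V => G.obj.map (e V) ≫ φ (ext hf V.unop) ≫ H.obj.map (e' V)
        naturality := fun V V' i => ?_ }, ?_⟩
    · have h1 := hnat (ext hf V.unop) (ext hf V'.unop) (e' V ≫ i ≫ e V')
      rw [← Category.assoc, ← Functor.map_comp, Subsingleton.elim (i ≫ e V') (e V ≫ e' V ≫ i ≫ e V'),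
        Functor.map_comp, Category.assoc, reassoc_of% h1, ← Functor.map_comp]
      simp only [Category.assoc, ← Functor.map_comp]
      congr 3
    · refine ObjectProperty.hom_ext _ (NatTrans.ext (funext fun ⟨W⟩ => ?_))
      change G.obj.map (e (op ((Opens.map f).obj W))) ≫ φ _ ≫ H.obj.map _ = φ W
      rw [← hnat, ← Category.assoc, ← Functor.map_comp,
        Subsingleton.elim (_ ≫ _ : op ((Opens.map f).obj W) ⟶ op ((Opens.map f).obj W)) (𝟙 _),
        G.obj.map_id, Category.id_comp]
theorem isIso_counit (hf : Topology.IsInducing f) :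
    IsIso (TopCat.Sheaf.pullbackPushforwardAdjunction (Type u) f).counit := by
  haveI := push_faithful hf
  haveI := push_full hf
  infer_instance

end Groth.Agent.ClosedPushSet
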